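import Mathlib

/-!
# S3670, piece (AR) (helper37 for helper54, board #10800)

Pure arithmetic of the 7-block of defect one in a group of order `6048`.
-/

set_option autoImplicit false

namespace Cfsg.Agent.Helper37.U33

set_option maxRecDepth 100000 in
theorem divisors_864 : Nat.divisors 864 =
    {1, 2, 3, 4, 6, 8, 9, 12, 16, 18, 24, 27, 32, 36, 48, 54, 72, 96, 108, 144, 216, 288, 432, 864} := by
  decide

/-- a divisor of `864` congruent to `ε = ±1` modulo `7` -/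
theorem AR_aux1 (a : ℕ) (ε : ℤ) (hε : ε = 1 ∨ ε = -1) (ha : a ∣ 864) (hma : (a : ℤ) ≡ ε [ZMOD 7]) :
    (ε = 1 ∧ (a = 1 ∨ a = 8 ∨ a = 36 ∨ a = 288)) ∨ (ε = -1 ∧ (a = 6 ∨ a = 27 ∨ a = 48 ∨ a = 216)) := by
  have ha' : a ∈ Nat.divisors 864 := Nat.mem_divisors.mpr ⟨ha, by norm_num⟩
  rw [divisors_864] at ha'
  simp only [Finset.mem_insert, Finset.mem_singleton] at ha'
  have h7 := hma.dvd
  rcases hε with rfl | rfl <;>
    rcases ha' with rfl | rfl | rfl | rfl | rfl | rfl | rfl | rfl | rfl | rfl | rfl | rfl | rfl | rfl |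
      rfl | rfl | rfl | rfl | rfl | rfl | rfl | rfl | rfl | rfl <;> omega

/-- (AR) `a, b` = degrees of the two nonprincipal nonexceptional characters, `y` = exceptional
degree.  In every admissible configuration one of them is divisible by `6`
(the solutions are `(8,6;3)`, `(8,27;18)`, `(6,27;32)`, `(1,6;4)` and symmetric ones). -/
theorem AR_six_dvd (a b y : ℕ) (εa εb δ : ℤ) (hεa : εa = 1 ∨ εa = -1) (hεb : εb = 1 ∨ εb = -1)
    (hδ : δ = 1 ∨ δ = -1) (ha : a ∣ 864) (hb : b ∣ 864) (hy : y ∣ 864)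
    (hma : (a : ℤ) ≡ εa [ZMOD 7]) (hmb : (b : ℤ) ≡ εb [ZMOD 7])
    (hmy : (y : ℤ) ≡ δ * 3 [ZMOD 7])
    (heq : δ * (y : ℤ) = 1 + εa * (a : ℤ) + εb * (b : ℤ)) (hne : ¬ (a = 1 ∧ b = 1)) :
    6 ∣ a ∨ 6 ∣ b ∨ 6 ∣ y := by
  have hy' : y ∈ Nat.divisors 864 := Nat.mem_divisors.mpr ⟨hy, by norm_num⟩
  rw [divisors_864] at hy'
  simp only [Finset.mem_insert, Finset.mem_singleton] at hy'
  have h7y := hmy.dvd
  rcases AR_aux1 a εa hεa ha hma with ⟨rfl, rfl | rfl | rfl | rfl⟩ | ⟨rfl, rfl | rfl | rfl | rfl⟩ <;>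
    rcases AR_aux1 b εb hεb hb hmb with ⟨rfl, rfl | rfl | rfl | rfl⟩ | ⟨rfl, rfl | rfl | rfl | rfl⟩ <;>
      rcases hδ with rfl | rfl <;> omega

end Cfsg.Agent.Helper37.U33
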