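import Mathlib
import Cfsg.Prelude.Def_DegreeGraph
import Cfsg.Prelude.Def_Classical
import Cfsg.Agent.Helper16.Brauer43.GL
import Cfsg.Agent.Helper79.CharComplete
import Cfsg.Agent.Helper68.B43c.F4a

/-!
# S3670, piece (ENG) (helper37 for helper54, board #10800)

The Brauer engine at `p = 7`, `e = 3`: the set `S = X ∪ Y` of at most five irreducible characters.
-/

set_option autoImplicit false

namespace Cfsg.Agent.Helper37.U33

open Cfsg Cfsg.Agent.Helper16.DefOne Cfsg.Agent.Helper16.Brauer43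
open scoped ComplexConjugate

universe u

instance fact7 : Fact (Nat.Prime 7) := ⟨by norm_num⟩

/-- (ENG) Output of `Helper16.Brauer43` (`exists_L0Data`, `GL.*`) for `p = 7`, `e = 3`: the set
`S = X ∪ Y` of at most `5` irreducible characters contains the principal one
(`GL.principal_mem_X`), outside of it all degrees are divisible by `7` (`GL.dvd_deg_Z`), and it
contains a character of degree divisible by `6`: with `X = {1, χa, χb}`, `ψ ∈ Y` apply (AR)
(`hAR`) to `GL.degree_equation`, `GL.deg_modEq_X/Y`, `GL.deg_dvd_X/Y` (`e·|G:N| = 864`);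
`hne` from `Helper68.B43c.eq_principal_of_charDegree_one`. -/
theorem ENG_config {G : Type u} [Group G] [Fintype G] (P : Sylow 7 G)
    (hP : Nat.card P = 7) (hC : cen P = (P : Subgroup G))
    (he : (cen P).relIndex (nor P) = 3) (hidx : (nor P).index = 288)
    (hperf : commutator G = ⊤)
    (hAR : ∀ (a b y : ℕ) (εa εb δ : ℤ), (εa = 1 ∨ εa = -1) → (εb = 1 ∨ εb = -1) →
      (δ = 1 ∨ δ = -1) → a ∣ 864 → b ∣ 864 → y ∣ 864 → (a : ℤ) ≡ εa [ZMOD 7] →
      (b : ℤ) ≡ εb [ZMOD 7] → (y : ℤ) ≡ δ * 3 [ZMOD 7] →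
      δ * (y : ℤ) = 1 + εa * (a : ℤ) + εb * (b : ℤ) → ¬ (a = 1 ∧ b = 1) →
      6 ∣ a ∨ 6 ∣ b ∨ 6 ∣ y) :
    ∃ S : Set (IrrCharacter G), S.ncard ≤ 5 ∧ Helper79.principalIrr G ∈ S ∧
      (∀ χ : IrrCharacter G, χ ∉ S → 7 ∣ charDegree (χ : G → ℂ)) ∧
      (∃ χ ∈ S, 6 ∣ charDegree (χ : G → ℂ)) := by
  classical
  have : Fintype (P : Subgroup G) := Fintype.ofFinite _
  obtain ⟨D⟩ := exists_L0Data P hP hC
  have hcX : D.X.ncard = 3 := by
    rw [← Nat.card_coe_set_eq, D.hcX, he]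
  have hcY : D.Y.ncard = 2 := by
    rw [← Nat.card_coe_set_eq, D.hcY, he]
  obtain ⟨h1X, h1ε⟩ := GL.principal_mem_X P D hperf (by rw [he])
  have h864 : (cen P).relIndex (nor P) * (nor P).index = 864 := by rw [he, hidx]
  refine ⟨D.X ∪ D.Y, ?_, Or.inl h1X, ?_, ?_⟩
  · calc (D.X ∪ D.Y).ncard ≤ D.X.ncard + D.Y.ncard := Set.ncard_union_le _ _
      _ = 5 := by rw [hcX, hcY]
  · intro χ hχ
    rw [Set.mem_union, not_or] at hχ
    exact GL.dvd_deg_Z P D hP χ hχ.1 hχ.2
  · -- `X = {1, χa, χb}`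
    have hXfin : D.X.Finite := Set.finite_of_ncard_ne_zero (by rw [hcX]; norm_num)
    have hdiff : (D.X \ {Helper79.principalIrr G}).ncard = 2 := by
      rw [Set.ncard_sdiff_singleton_of_mem h1X, hcX]
    obtain ⟨χa, χb, hab, hXab⟩ := Set.ncard_eq_two.mp hdiff
    have haX : χa ∈ D.X \ {Helper79.principalIrr G} := by rw [hXab]; simp
    have hbX : χb ∈ D.X \ {Helper79.principalIrr G} := by rw [hXab]; simp
    have ha1 : χa ≠ Helper79.principalIrr G := fun h => haX.2 (by rw [h]; rfl)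
    have hb1 : χb ≠ Helper79.principalIrr G := fun h => hbX.2 (by rw [h]; rfl)
    have hXeq : D.X = insert (Helper79.principalIrr G) (insert χa {χb}) := by
      rw [← hXab, Set.insert_sdiff_singleton, Set.insert_eq_of_mem h1X]
    -- an element of `Y`
    have hYne : D.Y.Nonempty := by
      rw [← Set.ncard_pos (Set.finite_of_ncard_ne_zero (by rw [hcY]; norm_num)), hcY]
      norm_num
    obtain ⟨ψ, hψ⟩ := hYne
    -- the degree equation
    have hdeg := GL.degree_equation P D ψ hψ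
    have hsum : ∑ᶠ χ ∈ D.X, D.ε χ * (charDegree (χ : G → ℂ) : ℤ) =
        1 + D.ε χa * (charDegree (χa : G → ℂ) : ℤ) + D.ε χb * (charDegree (χb : G → ℂ) : ℤ) := by
      rw [hXeq, finsum_mem_insert _ (by
          rw [Set.mem_insert_iff, Set.mem_singleton_iff, not_or]
          exact ⟨fun h => ha1 h.symm, fun h => hb1 h.symm⟩) (Set.toFinite _),
        finsum_mem_insert _ (by rw [Set.mem_singleton_iff]; exact hab) (Set.finite_singleton _),
        finsum_mem_singleton, h1ε, Helper68.B43c.charDegree_principal]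
      push_cast
      ring
    rw [hsum] at hdeg
    have hmy := GL.deg_modEq_Y P D hP ψ hψ
    rw [he] at hmy
    have hres := hAR (charDegree (χa : G → ℂ)) (charDegree (χb : G → ℂ)) (charDegree (ψ : G → ℂ))
      (D.ε χa) (D.ε χb) D.δ (D.hε χa) (D.hε χb) D.hδ
      (h864 ▸ GL.deg_dvd_X P D hP hC χa haX.1) (h864 ▸ GL.deg_dvd_X P D hP hC χb hbX.1)
      (h864 ▸ GL.deg_dvd_Y P D hP hC ψ hψ)
      (GL.deg_modEq_X P D hP χa haX.1) (GL.deg_modEq_X P D hP χb hbX.1) (by exact_mod_cast hmy) hdeg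
      (fun h => ha1 (Helper68.B43c.eq_principal_of_charDegree_one hperf χa h.1))
    rcases hres with h | h | h
    · exact ⟨χa, Or.inl haX.1, h⟩
    · exact ⟨χb, Or.inl hbX.1, h⟩
    · exact ⟨ψ, Or.inr hψ, h⟩

end Cfsg.Agent.Helper37.U33
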